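import Mathlib
import Cfsg.Agent.Lib.Helper69.APQ.Defs
import Cfsg.Agent.Lib.Helper75.LW.All
import Cfsg.Agent.Lib.Helper39.KAlt.ShN
import Cfsg.Agent.S0680

/-!
# APQ package [T13F]: no 3-transitive group of degree 13 has order 1716
-/

set_option autoImplicit false

namespace Cfsg.Agent.Lib.Helper75.APQ

open Equiv Cfsg.Agent.Lib.Helper69.APQ Cfsg.Agent.Lib.Helper75.LW

universe u

section

variable {β : Type u} [Fintype β] [DecidableEq β]

theorem t13f_inv (G : Subgroup (Perm β)) (a : β) (k : ↥(PS G {a})) (c : β) :
    ((k : Perm β) c ≠ a) ↔ (c ≠ a) := by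
  have ha : (k : Perm β) a = a := (mem_PS.mp k.2).2 a (by simp)
  constructor
  · intro h1 h
    exact h1 (by rw [h, ha])
  · intro h1 h
    exact h1 ((k : Perm β).injective (h.trans ha.symm))

/-- the action of a point stabiliser on the other points -/
noncomputable def t13fRho (G : Subgroup (Perm β)) (a : β) :
    ↥(PS G {a}) →* Perm {c : β // c ≠ a} :=
  MonoidHom.mk' (fun k => ((k : Perm β)).subtypePerm (t13f_inv G a k)) (by
    intro k k'
    ext c
    rfl)

theorem t13fRho_apply (G : Subgroup (Perm β)) (a : β) (k : ↥(PS G {a}))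
    (c : {c : β // c ≠ a}) : ((t13fRho G a k) c : β) = (k : Perm β) (c : β) := rfl

theorem t13f_pow (p j : ℕ) (hp : p.Prime) (h : 12 = p ^ j) : False := by
  have hj : j ≠ 0 := by
    rintro rfl
    simp at h
  have hdvd : p ∣ 12 := by rw [h]; exact dvd_pow_self p hj
  have hle : p ≤ 12 := Nat.le_of_dvd (by norm_num) hdvd
  have h23 : p = 2 ∨ p = 3 := by
    interval_cases p <;> simp_all (config := { decide := true })
  have hj4 : j < 4 := by
    by_contra hcon
    push_neg at hcon
    have : p ^ 4 ≤ p ^ j := Nat.pow_le_pow_right hp.pos hcon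
    have h16 : 2 ^ 4 ≤ p ^ 4 := Nat.pow_le_pow_left hp.two_le 4
    omega
  rcases h23 with rfl | rfl <;> interval_cases j <;> omega

end

theorem pkgT13F : PkgT13F.{u} := by
  intro β _ _ G h13 h3 hcard
  classical
  have hT3 : HT G 3 := (allBrT G 3).mp h3
  -- trivial three-point stabilisers
  have triv3 : ∀ s : Finset β, s.card = 3 → ∀ g ∈ G, (∀ c ∈ s, g c = c) → g = 1 := by
    intro s hs g hg hfix
    have hc := allCntT G 3 s hs hT3
    rw [hcard, h13] at hc
    have hd : (13 : ℕ).descFactorial 3 = 1716 := by decide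
    rw [hd] at hc
    have h1 : Nat.card (PS G s) = 1 := by omega
    have hbot : PS G s = ⊥ := Subgroup.eq_bot_of_card_eq _ h1
    have : g ∈ PS G s := mem_PS.mpr ⟨hg, hfix⟩
    rw [hbot, Subgroup.mem_bot] at this
    exact this
  have hne : Nonempty β := Fintype.card_pos_iff.mp (by omega)
  obtain ⟨a⟩ := hne
  have hcard' : Fintype.card {c : β // c ≠ a} = 12 := by
    rw [Fintype.card_subtype, Finset.filter_ne' Finset.univ a,
      Finset.card_erase_of_mem (Finset.mem_univ a), Finset.card_univ, h13]
  set ρ := t13fRho G a with hρ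
  set K' : Subgroup (Perm {c : β // c ≠ a}) := ρ.range with hK'
  -- 2-transitivity
  have hHT2 : HT K' 2 := by
    intro x y
    have hx01 : (x 0 : β) ≠ (x 1 : β) := fun h => by
      have := x.injective (Subtype.ext h)
      exact absurd this (by decide)
    have hy01 : (y 0 : β) ≠ (y 1 : β) := fun h => by
      have := y.injective (Subtype.ext h)
      exact absurd this (by decide)
    have hc3 : ({a, (x 0 : β), (x 1 : β)} : Finset β).card = 3 := by
      rw [Finset.card_insert_of_notMem, Finset.card_pair hx01]
      simp only [Finset.mem_insert, Finset.mem_singleton, not_or]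
      exact ⟨Ne.symm (x 0).2, Ne.symm (x 1).2⟩
    obtain ⟨g, hg, hg'⟩ := allExt G 3 {a, (x 0 : β), (x 1 : β)}
      (fun z => if z = (x 0 : β) then (y 0 : β) else if z = (x 1 : β) then (y 1 : β) else a)
      hc3 hT3 (by
        intro w hw w' hw' h
        simp only [Finset.coe_insert, Finset.coe_singleton, Set.mem_insert_iff,
          Set.mem_singleton_iff] at hw hw'
        have ha0 : a ≠ (x 0 : β) := Ne.symm (x 0).2
        have ha1 : a ≠ (x 1 : β) := Ne.symm (x 1).2
        have hb0 : (y 0 : β) ≠ a := (y 0).2
        have hb1 : (y 1 : β) ≠ a := (y 1).2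
        rcases hw with rfl | rfl | rfl <;> rcases hw' with rfl | rfl | rfl
        · rfl
        · simp only [if_neg ha0, if_neg ha1, if_true] at h
          exact absurd h.symm hb0
        · simp only [if_neg ha0, if_neg ha1, if_true, if_neg (Ne.symm hx01)] at h
          exact absurd h.symm hb1
        · simp only [if_neg ha0, if_neg ha1, if_true] at h
          exact absurd h hb0
        · rfl
        · simp only [if_true, if_neg (Ne.symm hx01)] at h
          exact absurd h hy01
        · simp only [if_neg ha0, if_neg ha1, if_true, if_neg (Ne.symm hx01)] at h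
          exact absurd h hb1
        · simp only [if_true, if_neg (Ne.symm hx01)] at h
          exact absurd h.symm hy01
        · rfl)
    have ea : g a = a := by
      rw [hg' a (by simp)]
      simp [Ne.symm (x 0).2, Ne.symm (x 1).2]
    have e0 : g (x 0 : β) = (y 0 : β) := by
      rw [hg' _ (by simp)]; simp
    have e1 : g (x 1 : β) = (y 1 : β) := by
      rw [hg' _ (by simp)]; simp [Ne.symm hx01]
    have hmem : g ∈ PS G {a} := mem_PS.mpr ⟨hg, by simpa using ea⟩
    refine ⟨ρ ⟨g, hmem⟩, ⟨_, rfl⟩, ?_⟩
    intro i
    apply Subtype.ext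
    rw [hρ, t13fRho_apply]
    fin_cases i
    · exact e0
    · exact e1
  -- sharpness
  have htriv : Triv K' 2 := by
    intro s hs σ hσ hfix
    obtain ⟨k, rfl⟩ := hσ
    have hk := mem_PS.mp k.2
    have hka : (k : Perm β) a = a := hk.2 a (by simp)
    have hcard3 : (insert a (s.map (Function.Embedding.subtype _))).card = 3 := by
      rw [Finset.card_insert_of_notMem, Finset.card_map, hs]
      simp only [Finset.mem_map, Function.Embedding.coe_subtype, not_exists, not_and]
      intro c _ hc
      exact c.2 hc
    have h1 : (k : Perm β) = 1 := by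
      apply triv3 _ hcard3 (k : Perm β) hk.1
      intro c hc
      rw [Finset.mem_insert] at hc
      rcases hc with rfl | hc
      · exact hka
      · rw [Finset.mem_map] at hc
        obtain ⟨c', hc', rfl⟩ := hc
        have := hfix c' hc'
        have h2 := congrArg Subtype.val this
        rw [hρ, t13fRho_apply] at h2
        exact h2
    have : k = 1 := Subtype.ext h1
    rw [this, map_one]
  have h2 : MulAction.IsMultiplyPretransitive K' {c : β // c ≠ a} 2 := (allBrT K' 2).mpr hHT2
  obtain ⟨p, j, hp, -, hpj, -⟩ := Cfsg.Agent.S0680.result K'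
    (Cfsg.Agent.Lib.Helper39.KAlt.sharp_of_triv K' 2 htriv) (by rw [hcard']; norm_num)
  rw [hcard'] at hpj
  exact t13f_pow p j hp hpj

end Cfsg.Agent.Lib.Helper75.APQ
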