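import Mathlib
import Cfsg.Agent.Lib.Helper69.APQ.Defs
import Cfsg.Agent.Lib.Helper75.LW.All
import Cfsg.Agent.S0675

/-!
# APQ package [T13K1]: Burnside on the stabiliser of two points (degree 13)
-/

set_option autoImplicit false

namespace Cfsg.Agent.Lib.Helper75.APQ

open Equiv Cfsg.Agent.Lib.Helper69.APQ Cfsg.Agent.Lib.Helper75.LW

universe u

section

variable {β : Type u} [Fintype β] [DecidableEq β]

theorem t13_stab2_fix (G : Subgroup (Perm β)) (a b : β) (k : ↥(Stab2 G a b)) :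
    ((k : ↥G) : Perm β) a = a ∧ ((k : ↥G) : Perm β) b = b := by
  have h := k.2
  unfold Stab2 at h
  rw [Subgroup.mem_inf, MulAction.mem_stabilizer_iff, MulAction.mem_stabilizer_iff] at h
  exact ⟨h.1, h.2⟩

theorem t13_stab2_mk (G : Subgroup (Perm β)) (a b : β) (g : Perm β) (hg : g ∈ G) (ha : g a = a)
    (hb : g b = b) : (⟨g, hg⟩ : ↥G) ∈ Stab2 G a b := by
  unfold Stab2
  rw [Subgroup.mem_inf, MulAction.mem_stabilizer_iff, MulAction.mem_stabilizer_iff]
  exact ⟨ha, hb⟩

theorem t13_inv (G : Subgroup (Perm β)) (a b : β) (k : ↥(Stab2 G a b)) (c : β) :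
    (((k : ↥G) : Perm β) c ≠ a ∧ ((k : ↥G) : Perm β) c ≠ b) ↔ (c ≠ a ∧ c ≠ b) := by
  obtain ⟨ha, hb⟩ := t13_stab2_fix G a b k
  constructor
  · rintro ⟨h1, h2⟩
    exact ⟨fun h => h1 (by rw [h, ha]), fun h => h2 (by rw [h, hb])⟩
  · rintro ⟨h1, h2⟩
    refine ⟨fun h => h1 ?_, fun h => h2 ?_⟩
    · exact (((k : ↥G) : Perm β)).injective (h.trans ha.symm)
    · exact (((k : ↥G) : Perm β)).injective (h.trans hb.symm)

/-- the action of the two-point stabiliser on the other points -/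
noncomputable def t13Rho (G : Subgroup (Perm β)) (a b : β) :
    ↥(Stab2 G a b) →* Perm {c : β // c ≠ a ∧ c ≠ b} :=
  MonoidHom.mk' (fun k => (((k : ↥G) : Perm β)).subtypePerm (t13_inv G a b k)) (by
    intro k k'
    ext c
    rfl)

theorem t13Rho_apply (G : Subgroup (Perm β)) (a b : β) (k : ↥(Stab2 G a b))
    (c : {c : β // c ≠ a ∧ c ≠ b}) :
    ((t13Rho G a b k) c : β) = ((k : ↥G) : Perm β) (c : β) := rfl

theorem t13Rho_injective (G : Subgroup (Perm β)) (a b : β) :
    Function.Injective (t13Rho G a b) := by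
  rw [injective_iff_map_eq_one]
  intro k hk
  obtain ⟨ha, hb⟩ := t13_stab2_fix G a b k
  apply Subtype.ext
  apply Subtype.ext
  ext c
  by_cases hc : c ≠ a ∧ c ≠ b
  · have := t13Rho_apply G a b k ⟨c, hc⟩
    rw [hk] at this
    simpa using this.symm
  · rw [not_and_or, not_not, not_not] at hc
    rcases hc with rfl | rfl
    · simpa using ha
    · simpa using hb

theorem t13_card (a b : β) (hab : a ≠ b) (h13 : Fintype.card β = 13) :
    Fintype.card {c : β // c ≠ a ∧ c ≠ b} = 11 := by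
  rw [Fintype.card_subtype]
  have : (Finset.univ.filter fun c : β => c ≠ a ∧ c ≠ b) = Finset.univ \ {a, b} := by
    ext c
    simp
  rw [this, Finset.card_sdiff_of_subset (Finset.subset_univ _), Finset.card_univ, h13,
    Finset.card_pair hab]

end

theorem pkgT13K1 : PkgT13K1.{u} := by
  intro β _ _ G h13 h3 g hg hgc a b hab hga hgb
  classical
  have hT3 : HT G 3 := (allBrT G 3).mp h3
  have hT2 : HT G 2 := allMono G 2 3 (by norm_num) (by omega) hT3
  set ρ := t13Rho G a b with hρ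
  have hinj := t13Rho_injective G a b
  set K' : Subgroup (Perm {c : β // c ≠ a ∧ c ≠ b}) := ρ.range with hK'
  have hcard := t13_card a b hab h13
  -- transitivity of K'
  have htr : ∀ c c' : {c : β // c ≠ a ∧ c ≠ b}, ∃ σ ∈ K', σ c = c' := by
    intro c c'
    have hc3 : ({a, b, (c : β)} : Finset β).card = 3 := by
      rw [Finset.card_insert_of_notMem, Finset.card_pair (Ne.symm c.2.2)]
      simp only [Finset.mem_insert, Finset.mem_singleton, not_or]
      exact ⟨hab, Ne.symm c.2.1⟩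
    obtain ⟨g₀, hg₀, hg₀'⟩ := allExt G 3 {a, b, (c : β)}
      (fun x => Equiv.swap (c : β) (c' : β) x) hc3 hT3 ((Equiv.injective _).injOn)
    have e1 : g₀ a = a := by
      rw [hg₀' a (by simp)]
      exact Equiv.swap_apply_of_ne_of_ne (Ne.symm c.2.1) (Ne.symm c'.2.1)
    have e2 : g₀ b = b := by
      rw [hg₀' b (by simp)]
      exact Equiv.swap_apply_of_ne_of_ne (Ne.symm c.2.2) (Ne.symm c'.2.2)
    have e3 : g₀ (c : β) = (c' : β) := by
      rw [hg₀' c (by simp)]
      exact Equiv.swap_apply_left _ _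
    refine ⟨ρ ⟨⟨g₀, hg₀⟩, t13_stab2_mk G a b g₀ hg₀ e1 e2⟩, ⟨_, rfl⟩, ?_⟩
    apply Subtype.ext
    rw [hρ, t13Rho_apply]
    exact e3
  have : MulAction.IsPretransitive ↥K' {c : β // c ≠ a ∧ c ≠ b} := by
    refine ⟨fun c c' => ?_⟩
    obtain ⟨σ, hσ, h⟩ := htr c c'
    exact ⟨⟨σ, hσ⟩, h⟩
  have hprime : (Fintype.card {c : β // c ≠ a ∧ c ≠ b}).Prime := by
    rw [hcard]; norm_num
  rcases Cfsg.Agent.S0675.result hprime K' with hsolv | h2
  · -- solvable
    right
    have hinj' : Function.Injective ρ.rangeRestrict :=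
      MonoidHom.rangeRestrict_injective_iff.mpr hinj
    exact solvable_of_solvable_injective hinj'
  · -- 2-transitive: then G is 4-transitive
    left
    have hK2 : HT K' 2 := (allBrT K' 2).mp h2
    rw [allBrT G 4]
    intro x y
    -- move the first two points to a, b
    have key : ∀ z : Fin 4 ↪ β, ∃ g₁ ∈ G, g₁ (z 0) = a ∧ g₁ (z 1) = b := by
      intro z
      have hne : z 0 ≠ z 1 := z.injective.ne (by decide)
      obtain ⟨g₁, hg₁, hg₁'⟩ := allExt G 2 {z 0, z 1} (fun w => if w = z 0 then a else b)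
        (Finset.card_pair hne) hT2 (by
          intro w hw w' hw' h
          simp only [Finset.coe_insert, Finset.coe_singleton, Set.mem_insert_iff,
            Set.mem_singleton_iff] at hw hw'
          rcases hw with rfl | rfl <;> rcases hw' with rfl | rfl
          · rfl
          · simp only [if_true, if_neg (Ne.symm hne)] at h
            exact absurd h hab
          · simp only [if_true, if_neg (Ne.symm hne)] at h
            exact absurd h.symm hab
          · rfl)
      refine ⟨g₁, hg₁, ?_, ?_⟩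
      · rw [hg₁' (z 0) (by simp)]; simp
      · rw [hg₁' (z 1) (by simp)]; simp [Ne.symm hne]
    obtain ⟨g₁, hg₁, h1a, h1b⟩ := key x
    obtain ⟨g₂, hg₂, h2a, h2b⟩ := key y
    have hx : ∀ i j : Fin 4, i ≠ j → g₁ (x i) ≠ g₁ (x j) := fun i j hij h =>
      hij (x.injective (g₁.injective h))
    have hy : ∀ i j : Fin 4, i ≠ j → g₂ (y i) ≠ g₂ (y j) := fun i j hij h =>
      hij (y.injective (g₂.injective h))
    have c2 : g₁ (x 2) ≠ a ∧ g₁ (x 2) ≠ b :=
      ⟨fun h => hx 2 0 (by decide) (h.trans h1a.symm), fun h => hx 2 1 (by decide) (h.trans h1b.symm)⟩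
    have c3 : g₁ (x 3) ≠ a ∧ g₁ (x 3) ≠ b :=
      ⟨fun h => hx 3 0 (by decide) (h.trans h1a.symm), fun h => hx 3 1 (by decide) (h.trans h1b.symm)⟩
    have d2 : g₂ (y 2) ≠ a ∧ g₂ (y 2) ≠ b :=
      ⟨fun h => hy 2 0 (by decide) (h.trans h2a.symm), fun h => hy 2 1 (by decide) (h.trans h2b.symm)⟩
    have d3 : g₂ (y 3) ≠ a ∧ g₂ (y 3) ≠ b :=
      ⟨fun h => hy 3 0 (by decide) (h.trans h2a.symm), fun h => hy 3 1 (by decide) (h.trans h2b.symm)⟩
    set C2 : {c : β // c ≠ a ∧ c ≠ b} := ⟨g₁ (x 2), c2⟩ with hC2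
    set C3 : {c : β // c ≠ a ∧ c ≠ b} := ⟨g₁ (x 3), c3⟩ with hC3
    set D2 : {c : β // c ≠ a ∧ c ≠ b} := ⟨g₂ (y 2), d2⟩ with hD2
    set D3 : {c : β // c ≠ a ∧ c ≠ b} := ⟨g₂ (y 3), d3⟩ with hD3
    have hC23 : C2 ≠ C3 := fun h => hx 2 3 (by decide) (congrArg Subtype.val h)
    have hD23 : D2 ≠ D3 := fun h => hy 2 3 (by decide) (congrArg Subtype.val h)
    obtain ⟨σ, hσ, hσ'⟩ := allExt K' 2 {C2, C3} (fun w => if w = C2 then D2 else D3)
      (Finset.card_pair hC23) hK2 (by
        intro w hw w' hw' h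
        simp only [Finset.coe_insert, Finset.coe_singleton, Set.mem_insert_iff,
          Set.mem_singleton_iff] at hw hw'
        rcases hw with rfl | rfl <;> rcases hw' with rfl | rfl
        · rfl
        · simp only [if_true, if_neg (Ne.symm hC23)] at h
          exact absurd h hD23
        · simp only [if_true, if_neg (Ne.symm hC23)] at h
          exact absurd h.symm hD23
        · rfl)
    have s2 : σ C2 = D2 := by rw [hσ' C2 (by simp)]; simp
    have s3 : σ C3 = D3 := by rw [hσ' C3 (by simp)]; simp [Ne.symm hC23]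
    obtain ⟨k, rfl⟩ := hσ
    obtain ⟨ka, kb⟩ := t13_stab2_fix G a b k
    have k2 : ((k : ↥G) : Perm β) (g₁ (x 2)) = g₂ (y 2) := by
      have := congrArg Subtype.val s2
      rwa [hρ, t13Rho_apply] at this
    have k3 : ((k : ↥G) : Perm β) (g₁ (x 3)) = g₂ (y 3) := by
      have := congrArg Subtype.val s3
      rwa [hρ, t13Rho_apply] at this
    refine ⟨g₂⁻¹ * ((k : ↥G) : Perm β) * g₁,
      G.mul_mem (G.mul_mem (G.inv_mem hg₂) (k : ↥G).2) hg₁, ?_⟩
    intro i
    rw [Equiv.Perm.mul_apply, Equiv.Perm.mul_apply, Equiv.Perm.inv_eq_iff_eq]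
    fin_cases i
    · show ((k : ↥G) : Perm β) (g₁ (x 0)) = g₂ (y 0)
      rw [h1a, ka, h2a]
    · show ((k : ↥G) : Perm β) (g₁ (x 1)) = g₂ (y 1)
      rw [h1b, kb, h2b]
    · exact k2
    · exact k3

end Cfsg.Agent.Lib.Helper75.APQ
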